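import Groth.Agent.S0938
import Groth.Agent.DegDevLib.Frame
import Groth.Agent.DCohLib.PerfCrit
import Groth.Agent.DCohLib.StalkKFlat
import Groth.Prelude.Def_DRing2

/-!
# Perfect complexes over a local ring spread to a neighbourhood
-/

set_option autoImplicit false
set_option backward.isDefEq.respectTransparency false
set_option linter.style.haveILetI false

universe u

open CategoryTheory CategoryTheory.Limits AlgebraicGeometry TopologicalSpace Opposite
open Groth.Agent.DCohLib Groth.Agent.PullbackMod Groth.Agent.DegDevLib Groth.Agent.CurveLib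

noncomputable section

namespace Groth.Agent.SpreadPerfLib

variable {X : Scheme.{u}}

theorem exists_open_sections {I : Type} [Finite I] (x : X) (c : I → X.presheaf.stalk x) :
    ∃ (U : X.Opens) (hx : x ∈ U) (s : I → Γ(X, U)), ∀ i, X.presheaf.germ U x hx (s i) = c i := by
  cases nonempty_fintype I
  choose W hW s hs using fun i => TopCat.Presheaf.exists_germ_eq X.presheaf (c i)
  have hxU : x ∈ Finset.univ.inf W := by
    show x ∈ ((Finset.univ.inf W : X.Opens) : Set X)
    rw [TopologicalSpace.Opens.coe_finset_inf]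
    simpa using fun j => hW j
  refine ⟨_, hxU, fun i => X.presheaf.map (homOfLE (Finset.inf_le (Finset.mem_univ i))).op (s i), fun i => ?_⟩
  rw [TopCat.Presheaf.germ_res_apply]
  exact hs i

theorem exists_open_zero {I : Type} [Finite I] {U : X.Opens} (x : X) (hx : x ∈ U) (c : I → Γ(X, U))
    (hc : ∀ i, X.presheaf.germ U x hx (c i) = 0) :
    ∃ (V : X.Opens) (_ : x ∈ V) (h : V ≤ U), ∀ i, X.presheaf.map (homOfLE h).op (c i) = 0 := by
  cases nonempty_fintype I
  choose W hW iU iU' hWc using fun i => TopCat.Presheaf.germ_eq X.presheaf x hx hx (c i) 0 (by rw [hc, map_zero])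
  have hxV : x ∈ Finset.univ.inf W ⊓ U := ⟨by
    show x ∈ ((Finset.univ.inf W : X.Opens) : Set X)
    rw [TopologicalSpace.Opens.coe_finset_inf]
    simpa using fun j => hW j, hx⟩
  refine ⟨_, hxV, inf_le_right, fun i => ?_⟩
  have hle : Finset.univ.inf W ⊓ U ≤ W i := inf_le_left.trans (Finset.inf_le (Finset.mem_univ i))
  rw [show (homOfLE (inf_le_right : Finset.univ.inf W ⊓ U ≤ U)) = homOfLE hle ≫ iU i from Subsingleton.elim _ _,
    op_comp, Functor.map_comp, ConcreteCategory.comp_apply, hWc i, map_zero, map_zero]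

theorem germ_e {Y : Scheme.{u}} (n : ℕ) (y : Y) (k : Fin n) :
    (FlatMod.freeMod Y n).presheaf.germ ⊤ y trivial (S0938.e Y n k) = stdGerm n y k := by
  rw [stdGerm, ParaFLib.oneG, stalkLin_germ]
  rfl

variable {Y : Scheme.{u}}

/-- The map of free modules given by a matrix of global functions. -/
def mapOfMat {n m : ℕ} (s : Fin n → Fin m → Γ(Y, ⊤)) : FlatMod.freeMod Y n ⟶ FlatMod.freeMod Y m :=
  (S0938.free_hom_exists n ((S0938.freeEquiv Y m).symm.toLinearMap.comp
    ((Fintype.linearCombination Γ(Y, ⊤) s).comp (S0938.freeEquiv Y n).toLinearMap))).choose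

theorem mapOfMat_e {n m : ℕ} (s : Fin n → Fin m → Γ(Y, ⊤)) (j : Fin n) :
    (mapOfMat s).app ⊤ (S0938.e Y n j) = ∑ k, s j k • S0938.e Y m k := by
  classical
  refine ((S0938.free_hom_exists n ((S0938.freeEquiv Y m).symm.toLinearMap.comp
    ((Fintype.linearCombination Γ(Y, ⊤) s).comp (S0938.freeEquiv Y n).toLinearMap))).choose_spec _).trans ?_
  have h1 : S0938.freeEquiv Y n (S0938.e Y n j) = Pi.single j 1 := funext fun i => by
    rw [Pi.single_apply]
    refine (S0938.proj_e Y n j i).trans ?_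
    simp only [eq_comm]
  show (S0938.freeEquiv Y m).symm (Fintype.linearCombination Γ(Y, ⊤) s (S0938.freeEquiv Y n (S0938.e Y n j))) = _
  rw [h1, Fintype.linearCombination_apply_single, one_smul]
  rfl

theorem mapOfMat_comp {n m l : ℕ} (s : Fin n → Fin m → Γ(Y, ⊤)) (t : Fin m → Fin l → Γ(Y, ⊤))
    (h : ∀ j p, ∑ k, s j k * t k p = 0) : mapOfMat s ≫ mapOfMat t = 0 := by
  refine S0938.free_hom_ext n fun j => ?_
  show (mapOfMat t).app ⊤ ((mapOfMat s).app ⊤ (S0938.e Y n j)) = _
  rw [mapOfMat_e, map_sum]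
  calc ∑ k, (mapOfMat t).app ⊤ (s j k • S0938.e Y m k)
      = ∑ k, ∑ p, (s j k * t k p) • S0938.e Y l p := Finset.sum_congr rfl fun k _ => by
        refine (Scheme.Modules.Hom.app_smul (mapOfMat t) _ _).trans ?_
        rw [mapOfMat_e, Finset.smul_sum]
        exact Finset.sum_congr rfl fun p _ => (mul_smul _ _ _).symm
    _ = 0 := by
        rw [Finset.sum_comm]
        simp only [← Finset.sum_smul, h, zero_smul, Finset.sum_const_zero]
    _ = _ := by rw [Scheme.Modules.Hom.zero_app]; rfl

theorem stalkLin_mapOfMat {n m : ℕ} (s : Fin n → Fin m → Γ(Y, ⊤)) (y : Y) (j : Fin n) :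
    stalkLin (mapOfMat s) y (stdGerm n y j) =
      ∑ k, Y.presheaf.germ ⊤ y trivial (s j k) • stdGerm m y k := by
  rw [← germ_e, stalkLin_germ, mapOfMat_e, map_sum]
  refine Finset.sum_congr rfl fun k _ => ?_
  rw [← germ_e]
  exact PresheafOfModules.germ_smul (R := Y.presheaf) (FlatMod.freeMod Y m).val y ⊤ trivial _ _

attribute [local instance] HasDerivedCategory.standard

theorem exists_spread {X : Scheme.{u}} (x : X) (E : DRing.Cx (X.presheaf.stalk x : Type u)) (a b : ℤ)
    (hE : DRing.VanishesOutside E a b) (hP : DRing.TermwiseFiniteProjective E) :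
    ∃ (U : X.Opens) (F' : CochainComplex X.Modules ℤ), x ∈ U ∧
      DCoh.IsPerfect (DerivedCategory.Q.obj ((DCoh.restrictCx U).obj F')) ∧
      Nonempty (((DerSch.stalkFunctor X x).mapHomologicalComplex (ComplexShape.up ℤ)).obj F' ≅ E) := by
  classical
  haveI : ∀ i, Module.Finite (X.presheaf.stalk x) (E.X i) := fun i => (hP i).1
  haveI : ∀ i, Module.Free (X.presheaf.stalk x) (E.X i) := fun i => by
    haveI := (hP i).2
    exact Module.free_of_flat_of_isLocalRing
  let n : ℤ → ℕ := fun i => Module.finrank (X.presheaf.stalk x) (E.X i)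
  let bas : ∀ i, Module.Basis (Fin (n i)) (X.presheaf.stalk x) (E.X i) := fun i => Module.finBasis _ _
  have hn : ∀ i, i ∉ Finset.Icc a b → n i = 0 := fun i hi => by
    haveI : Subsingleton (E.X i) := ModuleCat.subsingleton_of_isZero (hE i (by simp at hi; omega))
    exact Module.finrank_zero_of_subsingleton
  let I := Σ i : (Finset.Icc a b : Finset ℤ), Fin (n i.1) × Fin (n (i.1 + 1))
  obtain ⟨U, hxU, s₀, hs₀⟩ := exists_open_sections (I := I) x
    fun p => (bas (p.1.1 + 1)).repr (E.d p.1.1 (p.1.1 + 1) (bas p.1.1 p.2.1)) p.2.2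
  let sU : ∀ i, Fin (n i) → Fin (n (i + 1)) → Γ(X, U) := fun i j k =>
    s₀ ⟨⟨i, Classical.byContradiction fun hi => (hn i hi ▸ j : Fin 0).elim0⟩, j, k⟩
  have hsU : ∀ i j k, X.presheaf.germ U x hxU (sU i j k) = (bas (i + 1)).repr (E.d i (i + 1) (bas i j)) k :=
    fun i j k => hs₀ _
  let J := Σ i : (Finset.Icc a b : Finset ℤ), Fin (n i.1) × Fin (n (i.1 + 1 + 1))
  obtain ⟨V, hxV, hVU, hV⟩ := exists_open_zero (I := J) x hxU
    (fun p => ∑ k, sU p.1.1 p.2.1 k * sU (p.1.1 + 1) k p.2.2) (fun p => by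
      obtain ⟨⟨i, hi⟩, j, l⟩ := p
      show X.presheaf.germ U x hxU (∑ k, sU i j k * sU (i + 1) k l) = 0
      rw [map_sum]
      simp only [map_mul, hsU]
      have h0 : E.d (i + 1) (i + 1 + 1) (E.d i (i + 1) (bas i j)) = 0 :=
        ConcreteCategory.congr_hom (E.d_comp_d i (i + 1) (i + 1 + 1)) (bas i j)
      conv at h0 => lhs; arg 2; rw [← (bas (i + 1)).sum_repr (E.d i (i + 1) (bas i j))]
      have := congrArg (fun v => (bas (i + 1 + 1)).repr v l) h0
      simp only [map_sum, map_smul, Finsupp.coe_finsetSum, Finset.sum_apply, Finsupp.smul_apply, smul_eq_mul,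
        map_zero, Finsupp.coe_zero, Pi.zero_apply] at this
      exact this)
  let x' : (V : Scheme.{u}) := ⟨x, hxV⟩
  let r : Γ(X, U) →+* Γ((V : Scheme.{u}), ⊤) := V.topIso.inv.hom.comp (X.presheaf.map (homOfLE hVU).op).hom
  let st : ∀ i, Fin (n i) → Fin (n (i + 1)) → Γ((V : Scheme.{u}), ⊤) := fun i j k => r (sU i j k)
  let T : CochainComplex (V : Scheme.{u}).Modules ℤ :=
    CochainComplex.of (fun i => FlatMod.freeMod (V : Scheme.{u}) (n i)) (fun i => mapOfMat (st i)) fun i => by
      refine mapOfMat_comp _ _ fun j l => ?_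
      have h := hV ⟨⟨i, Classical.byContradiction fun hi => (hn i hi ▸ j : Fin 0).elim0⟩, j, l⟩
      calc ∑ k, r (sU i j k) * r (sU (i + 1) k l) = r (∑ k, sU i j k * sU (i + 1) k l) := by
            rw [map_sum]; simp only [map_mul]
        _ = 0 := by
            show V.topIso.inv.hom (X.presheaf.map (homOfLE hVU).op (∑ k, sU i j k * sU (i + 1) k l)) = 0
            rw [h, map_zero]
  let F' : CochainComplex X.Modules ℤ :=
    ((Scheme.Modules.pushforward V.ι).mapHomologicalComplex (ComplexShape.up ℤ)).obj T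
  have eT : (DCoh.restrictCx V).obj F' ≅ T :=
    HomologicalComplex.Hom.isoOfComponents (fun i => (asIso (Scheme.Modules.restrictAdjunction V.ι).counit).app _)
      fun i j _ => ((Scheme.Modules.restrictAdjunction V.ι).counit.naturality _).symm
  refine ⟨V, F', hxV, isPerfect_of_perfOn ⟨T, ⟨⟨a, b, fun i hi => ?_⟩, fun i => ?_⟩,
    ⟨DerivedCategory.Q.mapIso eT.symm⟩⟩, ?_⟩
  · show IsZero (FlatMod.freeMod (V : Scheme.{u}) (n i))
    have h0 : n i = 0 := hn i (by simp; omega)
    rw [h0]
    refine (IsZero.iff_id_eq_zero _).mpr (Sigma.hom_ext _ _ fun k => k.elim0)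
  · exact isFinLocFree_freeMod (n i)
  -- stalks
  let σ := (asIso (V.ι.stalkMap x')).commRingCatIsoToRingEquiv
  let cinv : ∀ i, T.X i ⟶ (Scheme.Modules.restrictFunctor V.ι).obj (F'.X i) := fun i =>
    ((asIso (Scheme.Modules.restrictAdjunction V.ι).counit).app (T.X i)).inv
  have hnat : ∀ i j, cinv i ≫ (Scheme.Modules.restrictFunctor V.ι).map (F'.d i j) = T.d i j ≫ cinv j := fun i j =>
    ((asIso (Scheme.Modules.restrictAdjunction V.ι).counit).inv.naturality (T.d i j)).symm
  let Φ : ∀ i, (FlatMod.freeMod (V : Scheme.{u}) (n i)).presheaf.stalk x' ≃+ (F'.X i).presheaf.stalk x :=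
    fun i =>
      (((TopCat.Presheaf.stalkFunctor Ab.{u} x').mapIso
        ((Scheme.Modules.toPresheaf _).mapIso (((asIso (Scheme.Modules.restrictAdjunction V.ι).counit).app (T.X i)).symm))).addCommGroupIsoToAddEquiv).trans
        ((Scheme.Modules.restrictStalkNatIso V.ι x').app (F'.X i)).addCommGroupIsoToAddEquiv
  have hΦ : ∀ i c z, Φ i (c • z) = (id (σ.symm c) : X.presheaf.stalk x) • Φ i z := fun i c z => by
    show (Scheme.Modules.restrictStalkNatIso V.ι x').hom.app (F'.X i) (stalkLin (cinv i) x' (c • z)) = _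
    rw [map_smul]
    exact restrictStalk_smul V.ι (F'.X i) x' c _
  have hΦd : ∀ i j z, stalkLin (F'.d i j) x (Φ i z) = Φ j (stalkLin (T.d i j) x' z) := fun i j z => by
    have h1 := ConcreteCategory.congr_hom ((Scheme.Modules.restrictStalkNatIso V.ι x').hom.naturality (F'.d i j))
      (stalkLin (cinv i) x' z)
    refine Eq.trans h1.symm ?_
    show (Scheme.Modules.restrictStalkNatIso V.ι x').hom.app (F'.X j)
      (stalkLin ((Scheme.Modules.restrictFunctor V.ι).map (F'.d i j)) x' (stalkLin (cinv i) x' z)) =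
      (Scheme.Modules.restrictStalkNatIso V.ι x').hom.app (F'.X j) (stalkLin (cinv j) x' (stalkLin (T.d i j) x' z))
    exact congrArg _ ((DFunLike.congr_fun (stalkLin_comp (cinv i) _ x') z).symm.trans
      ((congrArg (fun f => stalkLin f x' z) (hnat i j)).trans (DFunLike.congr_fun (stalkLin_comp (T.d i j) (cinv j) x') z)))
  let ψ : ∀ i, E.X i →ₗ[X.presheaf.stalk x] (F'.X i).presheaf.stalk x := fun i =>
    (bas i).constr (X.presheaf.stalk x) fun j => Φ i (stdGerm (n i) x' j)
  have hψ : ∀ i, Function.Bijective (ψ i) := fun i => by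
    have h1 : ∀ c : Fin (n i) → (V : Scheme.{u}).presheaf.stalk x',
        ψ i ((bas i).equivFun.symm fun j => σ.symm (c j)) =
          Φ i (Fintype.linearCombination ((V : Scheme.{u}).presheaf.stalk x') (stdGerm (n i) x') c) := fun c => by
      rw [Fintype.linearCombination_apply, map_sum, Module.Basis.equivFun_symm_apply, map_sum]
      refine Finset.sum_congr rfl fun j _ => ?_
      rw [map_smul, hΦ, Module.Basis.constr_basis]
      rfl
    have hb : Function.Bijective fun c : Fin (n i) → (V : Scheme.{u}).presheaf.stalk x' =>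
        (bas i).equivFun.symm fun j => σ.symm (c j) :=
      (bas i).equivFun.symm.bijective.comp (Equiv.piCongrRight fun _ => σ.symm.toEquiv).bijective
    rw [← Function.Bijective.of_comp_iff (ψ i) hb]
    rw [show (ψ i) ∘ (fun c : Fin (n i) → (V : Scheme.{u}).presheaf.stalk x' =>
        (bas i).equivFun.symm fun j => σ.symm (c j)) = (Φ i) ∘
          (Fintype.linearCombination ((V : Scheme.{u}).presheaf.stalk x') (stdGerm (n i) x')) from funext h1]
    exact (Φ i).bijective.comp (stdGerm_bijective (n i) x')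
  refine ⟨(HomologicalComplex.Hom.isoOfComponents (fun i => (LinearEquiv.ofBijective (ψ i) (hψ i)).toModuleIso)
    fun i j hij => ?_).symm⟩
  change i + 1 = j at hij
  subst hij
  refine ModuleCat.hom_ext ((bas i).ext fun k => ?_)
  show stalkLin (F'.d i (i + 1)) x (ψ i (bas i k)) = ψ (i + 1) (E.d i (i + 1) (bas i k))
  rw [Module.Basis.constr_basis, hΦd, show T.d i (i + 1) = mapOfMat (st i) from CochainComplex.of_d (fun i => FlatMod.freeMod (V : Scheme.{u}) (n i)) (fun i => mapOfMat (st i)) i,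
    stalkLin_mapOfMat, map_sum]
  conv_rhs => rw [← (bas (i + 1)).sum_repr (E.d i (i + 1) (bas i k)), map_sum]
  refine Finset.sum_congr rfl fun l _ => ?_
  rw [hΦ, map_smul, Module.Basis.constr_basis]
  congr 1
  show σ.symm ((V : Scheme.{u}).presheaf.germ ⊤ x' trivial (st i k l)) = _
  rw [← hsU i k l]
  refine σ.symm_apply_eq.mpr ?_
  show (V : Scheme.{u}).presheaf.germ ⊤ x' trivial
      (V.topIso.inv.hom (X.presheaf.map (homOfLE hVU).op (sU i k l))) = V.ι.stalkMap x' _
  show _ = V.ι.stalkMap x' (X.presheaf.germ U (V.ι x') hxU (sU i k l))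
  refine Eq.trans ?_ (Scheme.Hom.germ_stalkMap_apply V.ι U x' hxU _).symm
  refine Eq.trans ?_ ((V : Scheme.{u}).presheaf.germ_res_apply (homOfLE (show (⊤ : (V : Scheme.{u}).Opens) ≤ V.ι ⁻¹ᵁ U from fun y _ => hVU y.2)) x' trivial _)
  congr 1
  rw [Scheme.Opens.topIso_inv, Scheme.Opens.ι_app]
  simp only [← ConcreteCategory.comp_apply]
  congr 1
  simp only [Scheme.Opens.toScheme_presheaf_map, ← Functor.map_comp]
  rfl

end Groth.Agent.SpreadPerfLib
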